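import Groth.Agent.KoszulLib.Iff
import Groth.Agent.KoszulLib.Concat
import Groth.Agent.KoszulLib.Flat
import Groth.Agent.KoszulLib.Change
import Groth.Agent.InjFibre.RegSeq
import Mathlib

/-!
# A Koszul-regular sequence becomes regular after a smooth extension
-/

set_option autoImplicit false
set_option linter.style.haveILetI false
universe u

open RingTheory.Sequence Polynomial

namespace Groth.Agent.KosReg

open Wiebe (Acyclic d_mem pi_top pi_d)

theorem pi_bot {A : Type u} [CommRing A] (n : ℕ) : Wiebe.pi (Wiebe.bot A (n + 1)) = 0 := by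
  simp [Wiebe.pi, Wiebe.bot]

/-- Nothing nonzero is killed by a Koszul-regular sequence of positive length. -/
theorem eq_zero_of_killed {A : Type u} [CommRing A] {n : ℕ} {f : Fin (n + 1) → A} (hf : Acyclic f) {a : A}
    (ha : ∀ i, a * f i = 0) : a = 0 := by
  have hz : Wiebe.d f (a • Wiebe.top A (n + 1)) = 0 := by
    funext s
    rw [map_smul, Pi.smul_apply, smul_eq_mul]
    obtain ⟨c, hc⟩ := Ideal.mem_span_range_iff_exists_fun.mp (d_mem f (Wiebe.top A (n + 1)) s)
    rw [← hc, Finset.mul_sum]
    refine Finset.sum_eq_zero fun i _ => ?_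
    rw [mul_left_comm, ha, mul_zero]
  obtain ⟨v, r, he⟩ := hf _ hz
  simpa [pi_top, pi_d, pi_bot] using congrArg Wiebe.pi he

/-- The generic combination. -/
noncomputable def gen {A : Type u} [CommRing A] {n : ℕ} (f : Fin n → A) : A[X] :=
  ∑ i : Fin n, C (f i) * X ^ (i : ℕ)

theorem coeff_gen {A : Type u} [CommRing A] {n : ℕ} (f : Fin n → A) (j : Fin n) : (gen f).coeff (j : ℕ) = f j := by
  simp [gen, coeff_C_mul, coeff_X_pow, Fin.val_inj]

theorem gen_nzd {A : Type u} [CommRing A] {n : ℕ} {f : Fin (n + 1) → A} (hf : Acyclic f) :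
    IsSMulRegular A[X] (gen f) := by
  have h : gen f ∈ nonZeroDivisors A[X] := by
    by_contra h
    obtain ⟨a, ha, hae⟩ := Polynomial.notMem_nonZeroDivisors_iff.mp h
    refine ha (eq_zero_of_killed hf fun i => ?_)
    rw [← coeff_gen f i, ← smul_eq_mul, ← Polynomial.coeff_smul, hae, coeff_zero]
  rw [← isRegular_iff_mem_nonZeroDivisors] at h
  exact h.left

theorem acyclic_equiv {A B : Type u} [CommRing A] [CommRing B] (e : A ≃+* B) {n : ℕ} {f : Fin n → A}
    (hf : Acyclic f) : Acyclic (⇑e ∘ f) := by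
  letI : Algebra A B := e.toRingHom.toAlgebra
  haveI : Module.Flat A B := RingHom.Flat.of_bijective e.bijective
  exact KoszulLib.acyclic_baseChange B hf

/-- The tail of a Koszul-regular sequence modulo its head, the head being a nonzerodivisor. -/
theorem acyclic_tail {T : Type u} [CommRing T] (x : T) (hx : IsSMulRegular T x) {c : ℕ} (F : Fin c → T)
    (h : Acyclic (Fin.append ![x] F)) : Acyclic (⇑(Ideal.Quotient.mk (Ideal.span {x})) ∘ F) := by
  have h1 : Acyclic (![x] : Fin 1 → T) := by
    refine KoszulLib.acyclic_of_isWeaklyRegular' ?_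
    simpa using (isWeaklyRegular_singleton_iff T x).mpr hx
  exact (KoszulLib.acyclic_append_iff _ Ideal.Quotient.mk_surjective h1
    (by rw [Ideal.mk_ker]; simp) F).mp h

/-- One variable makes the first element of a Koszul-regular sequence a nonzerodivisor. -/
theorem step {A : Type u} [CommRing A] {c : ℕ} (h : List A) (hh : IsWeaklyRegular A h) (f : Fin (c + 1) → A)
    (hf : Acyclic (⇑(Ideal.Quotient.mk (Ideal.ofList h)) ∘ f)) :
    ∃ (h' : List A[X]) (f' : Fin c → A[X]), IsWeaklyRegular A[X] h' ∧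
      Acyclic (⇑(Ideal.Quotient.mk (Ideal.ofList h')) ∘ f') ∧
      Ideal.ofList h' ⊔ Ideal.span (Set.range f') = (Ideal.ofList h ⊔ Ideal.span (Set.range f)).map C := by
  classical
  let H := Ideal.ofList h
  let q := Ideal.Quotient.mk H
  let h₁ := h.map C
  let g := gen f
  let f' : Fin c → A[X] := fun i => C (f i.succ)
  let T := (A ⧸ H)[X]
  let π : A[X] →+* T := mapRingHom q
  have hπ : Function.Surjective π := Polynomial.map_surjective q Ideal.Quotient.mk_surjective
  have hH₁ : Ideal.ofList h₁ = H.map C := (Ideal.map_ofList C h).symm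
  have hker : RingHom.ker π = Ideal.ofList h₁ := by
    rw [hH₁, Polynomial.ker_mapRingHom, Ideal.mk_ker]
  have hπg : π g = gen (⇑q ∘ f) := by
    show Polynomial.map q g = _
    simp [g, gen, Polynomial.map_sum]
  have hg : IsSMulRegular T (π g) := hπg ▸ gen_nzd hf
  have hh₁ : IsWeaklyRegular A[X] h₁ := RingTheory.Sequence.IsWeaklyRegular.of_flat (R := A) (S := A[X]) hh
  refine ⟨h₁ ++ [g], f', ?_, ?_, ?_⟩
  · rw [isWeaklyRegular_append_iff]
    refine ⟨hh₁, ?_⟩
    rw [isWeaklyRegular_singleton_iff]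
    intro x y hxy
    obtain ⟨x, rfl⟩ := Submodule.Quotient.mk_surjective _ x
    obtain ⟨y, rfl⟩ := Submodule.Quotient.mk_surjective _ y
    simp only [← Submodule.Quotient.mk_smul, Submodule.Quotient.eq, smul_eq_mul, Ideal.mul_top, ← hker,
      RingHom.mem_ker, map_sub, map_mul, sub_eq_zero] at hxy ⊢
    exact hg hxy
  · let N : Ideal T := Ideal.span {π g}
    let P : T →+* T ⧸ N := Ideal.Quotient.mk N
    have hfT : Acyclic (⇑(C : A ⧸ H →+* T) ∘ (⇑q ∘ f)) := by
      letI : Algebra (A ⧸ H) T := Polynomial.algebraOfAlgebra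
      exact KoszulLib.acyclic_baseChange T hf
    let F' : Fin c → T := fun i => C (q (f i.succ))
    have hspan : Ideal.span (Set.range (⇑(C : A ⧸ H →+* T) ∘ (⇑q ∘ f))) =
        Ideal.span (Set.range (Fin.append ![π g] F')) := by
      have hterm : ∀ i : Fin (c + 1), C (q (f i)) * X ^ (i : ℕ) ∈
          Ideal.span (Set.range (⇑(C : A ⧸ H →+* T) ∘ (⇑q ∘ f))) := fun i =>
        Ideal.mul_mem_right _ _ (Ideal.subset_span ⟨i, rfl⟩)
      refine le_antisymm (Ideal.span_le.mpr ?_) (Ideal.span_le.mpr ?_)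
      · rintro _ ⟨i, rfl⟩
        induction i using Fin.cases with
        | zero =>
          have h1 : π g = C (q (f 0)) + ∑ i : Fin c, C (q (f i.succ)) * X ^ ((i : ℕ) + 1) := by
            rw [hπg, gen, Fin.sum_univ_succ]; simp
          have h2 : (⇑(C : A ⧸ H →+* T) ∘ (⇑q ∘ f)) 0 = π g - ∑ i : Fin c, F' i * X ^ ((i : ℕ) + 1) := by
            rw [h1]; simp [F']
          rw [SetLike.mem_coe, h2]
          refine sub_mem (Ideal.subset_span ⟨Fin.castAdd c 0, by rw [Fin.append_left]; rfl⟩)
            (Ideal.sum_mem _ fun i _ => Ideal.mul_mem_right _ _ (Ideal.subset_span ⟨Fin.natAdd 1 i, ?_⟩))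
          rw [Fin.append_right]
        | succ i => exact Ideal.subset_span ⟨Fin.natAdd 1 i, by rw [Fin.append_right]; rfl⟩
      · rintro _ ⟨i, rfl⟩
        induction i using Fin.addCases with
        | left i =>
          rw [Fin.append_left, SetLike.mem_coe, show ![π g] i = π g from by fin_cases i; rfl, hπg, gen]
          exact Ideal.sum_mem _ fun i _ => hterm i
        | right i => rw [Fin.append_right]; exact Ideal.subset_span ⟨i.succ, rfl⟩
    have happ : Acyclic (Fin.append ![π g] F') :=
      KoszulLib.acyclic_of_length_le hfT hspan (by omega)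
    have htail : Acyclic (⇑P ∘ F') := acyclic_tail (π g) hg F' happ
    let ψ : A[X] →+* T ⧸ N := P.comp π
    have hψ : Function.Surjective ψ := Ideal.Quotient.mk_surjective.comp hπ
    have hψker : RingHom.ker ψ = Ideal.ofList (h₁ ++ [g]) := by
      show RingHom.ker (P.comp π) = _
      rw [← RingHom.comap_ker, Ideal.mk_ker, show N = (Ideal.span {g}).map π by
        rw [Ideal.map_span, Set.image_singleton], Ideal.comap_map_of_surjective _ hπ, Ideal.ofList_append,
        Ideal.ofList_singleton, ← hker, sup_comm]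
      rfl
    let e : A[X] ⧸ Ideal.ofList (h₁ ++ [g]) ≃+* T ⧸ N :=
      (Ideal.quotEquivOfEq hψker.symm).trans (RingHom.quotientKerEquivOfSurjective hψ)
    have h3 := acyclic_equiv (B := A[X] ⧸ Ideal.ofList (h₁ ++ [g])) e.symm htail
    convert h3 using 1
    funext i
    rw [Function.comp_apply, Function.comp_apply, eq_comm, RingEquiv.symm_apply_eq]
    show P (F' i) = P ((C (f i.succ)).map q)
    rw [Polynomial.map_C]
  · rw [Ideal.ofList_append, Ideal.ofList_singleton, hH₁, Ideal.map_sup, Ideal.map_span C (Set.range f),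
      ← Set.range_comp, sup_assoc]
    refine congrArg _ (le_antisymm (sup_le ?_ ?_) ?_)
    · rw [Ideal.span_le, Set.singleton_subset_iff]
      exact Ideal.sum_mem _ fun i _ => Ideal.mul_mem_right _ _ (Ideal.subset_span ⟨i, rfl⟩)
    · exact Ideal.span_mono (by rintro _ ⟨i, rfl⟩; exact ⟨i.succ, rfl⟩)
    · rw [Ideal.span_le]
      rintro _ ⟨i, rfl⟩
      induction i using Fin.cases with
      | zero =>
        have h2 : C (f 0) = g - ∑ i : Fin c, f' i * X ^ ((i : ℕ) + 1) := by
          simp [g, gen, f', Fin.sum_univ_succ]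
        rw [SetLike.mem_coe, Function.comp_apply, h2]
        exact sub_mem (Ideal.mem_sup_left (Ideal.mem_span_singleton_self g))
          (Ideal.mem_sup_right (Ideal.sum_mem _ fun i _ => Ideal.mul_mem_right _ _ (Ideal.subset_span ⟨i, rfl⟩)))
      | succ i => exact Ideal.mem_sup_right (Ideal.subset_span ⟨i, rfl⟩)

/-- A Koszul-regular sequence generates, in some smooth faithfully flat algebra, the ideal of a regular one. -/
theorem exists_smooth_regular : ∀ {c : ℕ} {A : Type u} [CommRing A] (h : List A), IsWeaklyRegular A h →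
    ∀ (f : Fin c → A), Acyclic (⇑(Ideal.Quotient.mk (Ideal.ofList h)) ∘ f) →
    ∃ (B : Type u) (_ : CommRing B) (φ : A →+* B), φ.Smooth ∧ Function.Surjective (PrimeSpectrum.comap φ) ∧
      ∃ rs : List B, IsWeaklyRegular B rs ∧ (Ideal.ofList h ⊔ Ideal.span (Set.range f)).map φ = Ideal.ofList rs := by
  intro c
  induction c with
  | zero =>
    intro A _ h hh f _
    exact ⟨A, inferInstance, RingHom.id A, RingHom.Smooth.id _, fun p => ⟨p, rfl⟩, h, hh, by
      simp [Set.range_eq_empty f, Ideal.span_empty, Ideal.map_id]⟩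
  | succ c ih =>
    intro A _ h hh f hf
    obtain ⟨h', f', hh', hf', he⟩ := step h hh f hf
    obtain ⟨B, _, φ, hφ, hs, rs, hrs, hφe⟩ := ih h' hh' f' hf'
    have hC : (C : A →+* A[X]).Smooth := by
      rw [← algebraMap_eq, RingHom.smooth_algebraMap]; exact ⟨inferInstance, inferInstance⟩
    have hCs : Function.Surjective (PrimeSpectrum.comap (C : A →+* A[X])) := by
      intro p
      refine ⟨PrimeSpectrum.comap (evalRingHom (0 : A)) p, ?_⟩
      rw [← PrimeSpectrum.comap_comp_apply, show (evalRingHom (0 : A)).comp (C : A →+* A[X]) = RingHom.id A from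
        RingHom.ext fun a => eval_C]
      rfl
    refine ⟨B, inferInstance, φ.comp C, hC.comp hφ, fun p => ?_, rs, hrs, ?_⟩
    · obtain ⟨p₁, rfl⟩ := hCs p
      obtain ⟨p₂, rfl⟩ := hs p₁
      exact ⟨p₂, PrimeSpectrum.comap_comp_apply _ _ _⟩
    · rw [← Ideal.map_map, ← he, hφe]

end Groth.Agent.KosReg
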