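import Groth.Agent.KosReg.Alg
import Groth.Agent.KoszulLib.SchKer
import Groth.Agent.KoszulLib.SchImm
import Groth.Agent.KoszulLib.Kinds

/-!
# A Koszul-regular immersion becomes regular on a smooth cover
-/

set_option autoImplicit false
set_option linter.style.haveILetI false
set_option backward.isDefEq.respectTransparency false
universe u

open CategoryTheory Limits AlgebraicGeometry RingTheory.Sequence

namespace Groth.Agent.KosReg

theorem exists_smooth_cover {Z X : Scheme.{u}} (i : Z ⟶ X) [IsClosedImmersion i]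
    (hi : RegImm.IsRegularImmersion RegImm.Kind.koszul i) :
    ∃ (X' : Scheme.{u}) (g : X' ⟶ X), Smooth g ∧ Surjective g ∧
      RegImm.IsRegularImmersion RegImm.Kind.regular (pullback.snd i g) := by
  classical
  have hloc : ∀ x : X, ∃ (U : X.affineOpens) (_ : x ∈ U.1) (B : Type u) (_ : CommRing B) (φ : Γ(X, U.1) →+* B),
      φ.Smooth ∧ Function.Surjective (PrimeSpectrum.comap φ) ∧ ∃ rs : List B, IsWeaklyRegular B rs ∧
        ((∃ z, i z ∈ U.1) → IsClosedImmersion (i ∣_ U.1) ∧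
          (RingHom.ker (i.app U.1).hom).map φ = Ideal.ofList rs) := fun x => by
    by_cases hx : x ∈ Set.range i
    · obtain ⟨z, rfl⟩ := hx
      obtain ⟨U, hz, hc, rs, hrs, hker⟩ := hi.2 z
      have hac : Wiebe.Acyclic (⇑(Ideal.Quotient.mk (Ideal.ofList ([] : List Γ(X, U.1)))) ∘ rs.get) := by
        have e : Ideal.ofList ([] : List Γ(X, U.1)) = ⊥ := Ideal.ofList_nil
        have h := acyclic_equiv ((Ideal.quotEquivOfEq e).trans (RingEquiv.quotientBot Γ(X, U.1))).symm
          (KoszulLib.koszul_seq_iff.1 hrs)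
        convert h using 1
        funext j
        rw [Function.comp_apply, Function.comp_apply, eq_comm, RingEquiv.symm_apply_eq]
        rfl
      obtain ⟨B, _, φ, hφ, hs, rs', hrs', he⟩ :=
        exists_smooth_regular [] (IsWeaklyRegular.nil _ _) rs.get hac
      refine ⟨U, hz, B, inferInstance, φ, hφ, hs, rs', hrs', fun _ => ⟨hc, ?_⟩⟩
      rw [hker, ← he, Ideal.ofList_nil, bot_sup_eq, Ideal.ofList]
      congr 2
      ext y
      simp [List.mem_iff_get]
    · obtain ⟨_, ⟨U, hU, rfl⟩, hxU, hU'⟩ := X.isBasis_affineOpens.exists_subset_of_mem_open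
        (show x ∈ (Set.range i)ᶜ from hx) i.isClosedEmbedding.isClosed_range.isOpen_compl
      exact ⟨⟨U, hU⟩, hxU, Γ(X, U), inferInstance, RingHom.id _, RingHom.Smooth.id _, fun p => ⟨p, rfl⟩, [],
        IsWeaklyRegular.nil _ _, fun ⟨z, hz⟩ => absurd ⟨z, rfl⟩ (hU' hz)⟩
  choose U hxU B _ φ hφ hφs rs hrs hker using hloc
  let Y : X → Scheme.{u} := fun x => Spec (CommRingCat.of (B x))
  let b : ∀ x, Y x ⟶ X := fun x => Spec.map (CommRingCat.ofHom (φ x)) ≫ (U x).2.fromSpec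
  haveI hsm : ∀ x, Smooth (b x) := fun x => by
    haveI : Smooth (Spec.map (CommRingCat.ofHom (φ x))) := (HasRingHomProperty.Spec_iff (P := @Smooth)).mpr (hφ x)
    infer_instance
  let g : (∐ Y) ⟶ X := Sigma.desc b
  have hg : Smooth g := IsZariskiLocalAtSource.sigmaDesc hsm
  refine ⟨∐ Y, g, hg, ⟨fun x => ?_⟩, inferInstance, fun w => ?_⟩
  · obtain ⟨p, hp⟩ := hφs x ((U x).2.primeIdealOf ⟨x, hxU x⟩)
    refine ⟨Sigma.ι Y x p, ?_⟩
    rw [← Scheme.Hom.comp_apply]
    simp only [g, Sigma.ι_desc]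
    show (U x).2.fromSpec (PrimeSpectrum.comap (φ x) p) = x
    rw [hp, (U x).2.fromSpec_primeIdealOf]
  · obtain ⟨x, y, hy⟩ : ∃ (x : X) (y : Y x), Sigma.ι Y x y = pullback.snd i g w := by
      obtain ⟨x, y, h⟩ := (sigmaOpenCover Y).exists_eq (pullback.snd i g w)
      exact ⟨x, y, h⟩
    let ι := Sigma.ι Y x
    obtain ⟨W, hW⟩ : ∃ W : (∐ Y).affineOpens, W.1 = ι ''ᵁ ⊤ :=
      ⟨⟨_, (isAffineOpen_top (Y x)).image_of_isOpenImmersion ι⟩, rfl⟩
    have hιb : ι ≫ g = b x := Sigma.ι_desc b x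
    have hgU : W.1 ≤ g ⁻¹ᵁ (U x).1 := by
      rw [hW]
      rintro _ ⟨t, -, rfl⟩
      show g (ι t) ∈ (U x).1
      rw [← Scheme.Hom.comp_apply, hιb]
      have h1 : (U x).2.fromSpec (Spec.map (CommRingCat.ofHom (φ x)) t) ∈ Set.range (U x).2.fromSpec := ⟨_, rfl⟩
      rwa [(U x).2.range_fromSpec] at h1
    have hwW : pullback.snd i g w ∈ W.1 := by
      rw [hW, ← hy]
      exact ⟨y, trivial, rfl⟩
    have hzU : i (pullback.fst i g w) ∈ (U x).1 := by
      rw [← Scheme.Hom.comp_apply, pullback.condition, Scheme.Hom.comp_apply]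
      exact hgU hwW
    obtain ⟨hc, hk⟩ := hker x ⟨_, hzU⟩
    obtain ⟨hcW, hkW⟩ := KoszulLib.ker_app_of_isPullback (IsPullback.of_hasPullback i g) (U x) hc W hgU
    have hWι : (⊤ : (Y x).Opens) ≤ ι ⁻¹ᵁ W.1 := by rw [hW]; exact fun t _ => ⟨t, trivial, rfl⟩
    haveI : IsIso (ι.appLE W.1 ⊤ hWι) := by
      have key : ∀ (W' : (∐ Y).Opens) (e : (⊤ : (Y x).Opens) ≤ ι ⁻¹ᵁ W'), W' = ι ''ᵁ ⊤ →
          IsIso (ι.appLE W' ⊤ e) := by
        rintro W' e rfl
        rw [← Scheme.Hom.appIso_hom']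
        infer_instance
      exact key _ _ hW
    let ε := asIso (ι.appLE W.1 ⊤ hWι) ≪≫ Scheme.ΓSpecIso (CommRingCat.of (B x))
    let e := ε.commRingCatIsoToRingEquiv
    have hfac : g.appLE (U x).1 W.1 hgU ≫ ε.hom = CommRingCat.ofHom (φ x) := by
      show g.appLE (U x).1 W.1 hgU ≫ ι.appLE W.1 ⊤ hWι ≫ (Scheme.ΓSpecIso (CommRingCat.of (B x))).hom = _
      rw [← Category.assoc, Scheme.Hom.appLE_comp_appLE]
      have e0 : (⊤ : (Y x).Opens) ≤ Spec.map (CommRingCat.ofHom (φ x)) ⁻¹ᵁ (⊤ : (Spec Γ(X, (U x).1)).Opens) := le_top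
      have e1 : (⊤ : (Spec Γ(X, (U x).1)).Opens) ≤ (U x).2.fromSpec ⁻¹ᵁ (U x).1 := by
        rw [(U x).2.fromSpec_preimage_self]
      have hcongr : ∀ (b' : Y x ⟶ X) (hb : ι ≫ g = b') (e' : (⊤ : (Y x).Opens) ≤ b' ⁻¹ᵁ (U x).1) h',
          (ι ≫ g).appLE (U x).1 ⊤ h' = b'.appLE (U x).1 ⊤ e' := by
        rintro _ rfl e' h'; rfl
      rw [hcongr _ hιb (fun t _ => e1 (x := Spec.map (CommRingCat.ofHom (φ x)) t) trivial)]
      show (Spec.map (CommRingCat.ofHom (φ x)) ≫ (U x).2.fromSpec).appLE (U x).1 ⊤ _ ≫ _ = _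
      rw [← Scheme.Hom.appLE_comp_appLE (Spec.map (CommRingCat.ofHom (φ x))) (U x).2.fromSpec (U x).1 ⊤ ⊤ e1 e0,
        Category.assoc]
      have h2 : (U x).2.fromSpec.appLE (U x).1 ⊤ e1 = (Scheme.ΓSpecIso Γ(X, (U x).1)).inv := by
        simp [Scheme.Hom.appLE, IsAffineOpen.fromSpec_app_self]
        erw [← Functor.map_comp]
        convert Category.comp_id _
        exact CategoryTheory.Functor.map_id _ _
      have h3 : (Spec.map (CommRingCat.ofHom (φ x))).appLE ⊤ ⊤ e0 = (Spec.map (CommRingCat.ofHom (φ x))).appTop :=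
        (Scheme.Hom.app_eq_appLE _).symm
      rw [h2, h3, Scheme.ΓSpecIso_naturality]
      exact Iso.inv_hom_id_assoc (Scheme.ΓSpecIso Γ(X, (U x).1)) _
    refine ⟨W, hwW, hcW, (rs x).map e.symm, ⟨?_, ?_⟩, ?_⟩
    · refine (AddEquiv.isWeaklyRegular_congr (e := e.symm.toAddEquiv) (bs := (rs x).map e.symm) ?_).mp (hrs x)
      induction rs x with
      | nil => exact List.Forall₂.nil
      | cons a l ih =>
        refine List.Forall₂.cons (fun t => ?_) ih
        show e.symm (a • t) = e.symm a • e.symm t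
        rw [smul_eq_mul, map_mul, smul_eq_mul]
    rotate_left
    · rw [hkW]
      have h4 : (RingHom.ker (i.app (U x).1).hom).map (g.appLE (U x).1 W.1 hgU).hom =
          ((RingHom.ker (i.app (U x).1).hom).map (φ x)).map e.symm.toRingHom := by
        rw [Ideal.map_map]
        congr 1
        refine RingHom.ext fun t => ?_
        show _ = e.symm (φ x t)
        rw [eq_comm, RingEquiv.symm_apply_eq]
        exact (RingHom.congr_fun (congrArg CommRingCat.Hom.hom hfac) t).symm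
      rw [h4, hk, Ideal.map_ofList]
      rfl
    · intro htop
      have h1 : Ideal.ofList ((rs x).map e.symm) = ⊤ := by simpa [smul_eq_mul, Ideal.mul_top] using htop.symm
      haveI : Nonempty ↥((pullback.snd i g) ⁻¹ᵁ W.1) := ⟨⟨w, hwW⟩⟩
      refine RingHom.ker_ne_top ((pullback.snd i g).app W.1).hom ?_
      rw [hkW]
      have h4 : (RingHom.ker (i.app (U x).1).hom).map (g.appLE (U x).1 W.1 hgU).hom =
          ((RingHom.ker (i.app (U x).1).hom).map (φ x)).map e.symm.toRingHom := by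
        rw [Ideal.map_map]
        congr 1
        refine RingHom.ext fun t => ?_
        show _ = e.symm (φ x t)
        rw [eq_comm, RingEquiv.symm_apply_eq]
        exact (RingHom.congr_fun (congrArg CommRingCat.Hom.hom hfac) t).symm
      rw [h4, hk, Ideal.map_ofList]
      exact h1

end Groth.Agent.KosReg
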